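import Groth.Prelude.Def_SecTwist
import Groth.Agent.Pi1C.ZeroScheme

/-!
# Sections of an invertible module on an integral scheme with the same zero scheme
-/

set_option autoImplicit false
universe u
open CategoryTheory CategoryTheory.Limits AlgebraicGeometry Opposite TopologicalSpace
open Groth.Agent.Fdesc.LocGen Groth.Agent.Pi1C.ZeroScheme

namespace K990.PicF2

variable {X : Scheme.{u}}

theorem zeroScheme_eq_of_smul {L : X.Modules} (hL : PicF.IsInvertible L)
    (s s' : Coh.structureModule X ⟶ L) (h : Γ(X, ⊤)) (hu : IsUnit h)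
    (e : sec s' ⊤ = h • sec s ⊤) : PicF2.zeroScheme L s' = PicF2.zeroScheme L s := by
  have key : ∀ U : X.Opens, sec s' U = ores (le_top : U ≤ ⊤) h • sec s U := by
    intro U
    have h1 := congrArg (res L (le_top : U ≤ ⊤)) e
    rw [res_smul, res_sec, res_sec] at h1
    exact h1
  refine Scheme.IdealSheafData.ext (funext fun U => ?_)
  rw [ideal_zeroScheme s hL, ideal_zeroScheme s' hL]
  obtain ⟨v, hv⟩ := hu.map (ores (le_top : U.1 ≤ ⊤))
  ext a
  rw [mem_zid_iff, mem_zid_iff]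
  constructor
  · intro H m
    obtain ⟨b, hb⟩ := H m
    exact ⟨b * ores le_top h, by rw [hb, key, smul_smul]⟩
  · intro H m
    obtain ⟨b, hb⟩ := H m
    refine ⟨b * (↑v⁻¹ : Γ(X, U.1)), ?_⟩
    rw [hb, key, smul_smul, ← hv, mul_assoc, Units.inv_mul, mul_one]

theorem ores_injective [AlgebraicGeometry.IsIntegral X] {U V : X.Opens} (h : V ≤ U) (hV : (V : Set X).Nonempty) :
    Function.Injective (ores h) := by
  obtain ⟨x, hx⟩ := hV
  have : Nonempty V := ⟨⟨x, hx⟩⟩
  exact map_injective_of_isIntegral X (homOfLE h)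

theorem inf_nonempty [AlgebraicGeometry.IsIntegral X] {U V : X.Opens} (hU : (U : Set X).Nonempty)
    (hV : (V : Set X).Nonempty) : ((U ⊓ V : X.Opens) : Set X).Nonempty := by
  obtain ⟨x, hx, hx'⟩ := nonempty_preirreducible_inter U.2 V.2 hU hV
  exact ⟨x, hx, hx'⟩

variable {L : X.Modules} (hL : PicF.IsInvertible L)

include hL in
theorem sec_ne_zero [AlgebraicGeometry.IsIntegral X] (s : Coh.structureModule X ⟶ L) (hs : s ≠ 0)
    {U : X.Opens} (hU : (U : Set X).Nonempty) : sec s U ≠ 0 := by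
  intro h0
  apply hs
  apply hom_ext_sec
  have h1 : ∀ x : X, ∃ (V : X.Opens) (_ : x ∈ V), res L (le_top : V ≤ ⊤) (sec s ⊤) = 0 := by
    intro x
    obtain ⟨V, -, hxV, -, e, he⟩ := exists_affine_isGen hL ⊤ x trivial
    refine ⟨V, hxV, ?_⟩
    rw [res_sec]
    obtain ⟨c, hc⟩ := he.exists_eq (sec s V)
    have h2 : sec s (V ⊓ U) = 0 := by
      rw [← res_sec s (inf_le_right : V ⊓ U ≤ U), h0, map_zero]
    have h3 := congrArg (res L (inf_le_left : V ⊓ U ≤ V)) hc
    rw [res_sec, res_smul, h2] at h3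
    have h4 : ores (inf_le_left : V ⊓ U ≤ V) c = 0 := by
      apply (he.res (inf_le_left : V ⊓ U ≤ V)).ext
      rw [← h3, zero_smul]
    have h5 : c = 0 := by
      apply ores_injective (inf_le_left : V ⊓ U ≤ V) (inf_nonempty ⟨x, hxV⟩ hU)
      rw [h4, map_zero]
    rw [hc, h5, zero_smul]
  choose V hxV hV using h1
  have h2 : sec (0 : Coh.structureModule X ⟶ L) ⊤ = 0 := rfl
  rw [h2]
  refine res_ext L V (fun _ => le_top) (fun x _ => Opens.mem_iSup.2 ⟨x, hxV x⟩) (fun x => ?_)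
  rw [hV, map_zero]

include hL in
theorem smul_sec_inj [AlgebraicGeometry.IsIntegral X] (s : Coh.structureModule X ⟶ L) (hs : s ≠ 0)
    {U : X.Opens} (hU : (U : Set X).Nonempty) {a b : Γ(X, U)} (h : a • sec s U = b • sec s U) :
    a = b := by
  obtain ⟨x, hx⟩ := hU
  obtain ⟨V, hV, hxV, hVU, e, he⟩ := exists_affine_isGen hL U x hx
  have hne : (V : Set X).Nonempty := ⟨x, hxV⟩
  apply ores_injective hVU hne
  obtain ⟨c, hc⟩ := he.exists_eq (sec s V)
  have hc0 : c ≠ 0 := by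
    rintro rfl
    exact sec_ne_zero hL s hs hne (by rw [hc, zero_smul])
  have h1 := congrArg (res L hVU) h
  rw [res_smul, res_smul, res_sec, hc, smul_smul, smul_smul] at h1
  have h2 := he.ext h1
  have : Nonempty V := ⟨⟨x, hxV⟩⟩
  have : IsDomain Γ(X, V) := inferInstance
  exact mul_right_cancel₀ hc0 h2

include hL in
theorem exists_smul_of_zeroScheme_eq [AlgebraicGeometry.IsIntegral X]
    (s s' : Coh.structureModule X ⟶ L) (hs : s ≠ 0)
    (h : PicF2.zeroScheme L s' = PicF2.zeroScheme L s) :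
    ∃ t : Γ(X, ⊤), sec s' ⊤ = t • sec s ⊤ := by
  have h1 : ∀ x : X, ∃ (V : X.Opens) (_ : x ∈ V) (t : Γ(X, V)), sec s' V = t • sec s V := by
    intro x
    obtain ⟨V, hV, hxV, -, e, he⟩ := exists_affine_isGen hL ⊤ x trivial
    obtain ⟨c, hc⟩ := he.exists_eq (sec s V)
    obtain ⟨c', hc'⟩ := he.exists_eq (sec s' V)
    have e1 := ideal_eq_span s hL ⟨V, hV⟩ he hc
    have e2 := ideal_eq_span s' hL ⟨V, hV⟩ he hc'
    rw [h, e1] at e2
    have h3 : c' ∈ Ideal.span {c} := by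
      rw [e2]; exact Ideal.mem_span_singleton_self _
    obtain ⟨t, ht⟩ := Ideal.mem_span_singleton'.1 h3
    exact ⟨V, hxV, t, by rw [hc', hc, smul_smul, ht]⟩
  choose V hxV t ht using h1
  have hcov : (⊤ : X.Opens) ≤ ⨆ x, V x := fun x _ => Opens.mem_iSup.2 ⟨x, hxV x⟩
  obtain ⟨t', ht'⟩ := ores_glue V (fun _ => le_top) hcov t (by
    intro x y
    have hne := inf_nonempty (⟨x, hxV x⟩ : ((V x : X.Opens) : Set X).Nonempty) ⟨y, hxV y⟩
    refine smul_sec_inj hL s hs hne ?_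
    have h3 := congrArg (res L (inf_le_left : V x ⊓ V y ≤ V x)) (ht x)
    have h4 := congrArg (res L (inf_le_right : V x ⊓ V y ≤ V y)) (ht y)
    rw [res_smul, res_sec, res_sec] at h3 h4
    exact h3.symm.trans h4)
  refine ⟨t', res_ext L V (fun _ => le_top) hcov (fun x => ?_)⟩
  rw [res_smul, res_sec, res_sec, ht', ht]

theorem zeroScheme_eq_iff [AlgebraicGeometry.IsIntegral X] (hL : PicF.IsInvertible L)
    (s s' : Coh.structureModule X ⟶ L) (hs : s ≠ 0) (hs' : s' ≠ 0) :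
    PicF2.zeroScheme L s' = PicF2.zeroScheme L s ↔
      ∃ h : Γ(X, ⊤), IsUnit h ∧ sec s' ⊤ = h • sec s ⊤ := by
  constructor
  · intro h
    obtain ⟨t, ht⟩ := exists_smul_of_zeroScheme_eq hL s s' hs h
    obtain ⟨t', ht'⟩ := exists_smul_of_zeroScheme_eq hL s' s hs' h.symm
    refine ⟨t, ?_, ht⟩
    obtain ⟨x⟩ : Nonempty X := inferInstance
    have h1 : (t' * t) • sec s ⊤ = (1 : Γ(X, ⊤)) • sec s ⊤ := by
      rw [mul_smul, ← ht, ← ht', one_smul]
    have h2 := smul_sec_inj hL s hs (U := ⊤) ⟨x, Set.mem_univ x⟩ h1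
    exact IsUnit.of_mul_eq_one _ ((mul_comm _ _).trans h2)
  · rintro ⟨h, hu, e⟩
    exact zeroScheme_eq_of_smul hL s s' h hu e

end K990.PicF2
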